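import Groth.Agent.Et18.LocAcycBC.Stalk
import Groth.Agent.Et18.AcyclicComp
import Groth.Agent.Et18.Stalk
import Groth.Agent.HenselLib.StrictBase
import Groth.Agent.HenselLib.IndQF

/-!
# Local acyclicity is stable under base change by integral / quasi-finite morphisms
-/

set_option autoImplicit false
set_option linter.all false
set_option backward.isDefEq.respectTransparency.types false
set_option backward.isDefEq.respectTransparency false
set_option maxHeartbeats 1000000

universe u

open CategoryTheory CategoryTheory.Limits AlgebraicGeometry IsLocalRing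
open scoped TensorProduct

namespace Groth.Agent.Et18.LocAcycBC

/-- Étale cohomology of a constant sheaf along an isomorphism of schemes. -/
theorem nonempty_H_equiv {Y T : Scheme.{u}} (e : Y ⟶ T) [IsIso e] (M : Type) [AddCommGroup M] (q : ℕ) :
    Nonempty (EtCoh.H T (EtCoh.const T M) q ≃+ EtCoh.H Y (EtCoh.const Y M) q) :=
  ⟨(AddEquiv.ofBijective (EtCore.Hpull e (EtCoh.const T M) q)
      (AcyclicComp.Hpull_bijective_of_isIso e _ q)).trans
    ((EtCoh.HF Y q).mapIso (EtCore.pullConst e M)).addCommGroupIsoToAddEquiv⟩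

/-- The variety of vanishing cycles is unchanged. -/
theorem nonempty_vcEquiv (RS RS' RX RX' Ω : Type u) [CommRing RS] [CommRing RS'] [CommRing RX] [CommRing RX']
    [CommRing Ω] [Algebra RS RS'] [Algebra RS RX] [Algebra RS' RX'] [Algebra RS Ω] [Algebra RS' Ω]
    [IsScalarTower RS RS' Ω] [Algebra RS RX'] [IsScalarTower RS RS' RX'] (ψ : RX →ₐ[RS] RX')
    (h : Function.Bijective (Algebra.TensorProduct.lift (IsScalarTower.toAlgHom RS RS' RX') ψ
      (fun _ _ => Commute.all _ _))) :
    Nonempty (EtRest.vcRing RS RX Ω ≃+* EtRest.vcRing RS' RX' Ω) := by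
  let φ : RS' ⊗[RS] RX ≃ₐ[RS'] RX' := AlgEquiv.ofBijective
    { Algebra.TensorProduct.lift (IsScalarTower.toAlgHom RS RS' RX') ψ (fun _ _ => Commute.all _ _) with
      commutes' := fun r => by
        show Algebra.TensorProduct.lift (IsScalarTower.toAlgHom RS RS' RX') ψ (fun _ _ => Commute.all _ _)
          (r ⊗ₜ[RS] (1 : RX)) = _
        rw [Algebra.TensorProduct.lift_tmul, map_one, mul_one]
        rfl } h
  exact ⟨(Algebra.TensorProduct.comm RS RX Ω).toRingEquiv.trans
    ((Algebra.TensorProduct.cancelBaseChange RS RS' Ω Ω RX).symm.toRingEquiv.trans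
      ((Algebra.TensorProduct.congr (AlgEquiv.refl : Ω ≃ₐ[RS'] Ω) φ).toRingEquiv.trans
        (Algebra.TensorProduct.comm RS' Ω RX').toRingEquiv))⟩

/-- Every finite subset lies in a quasi-finite subalgebra of finite type. -/
def DirectedQF {A B : Type u} [CommRing A] [CommRing B] (φ : A →+* B) : Prop :=
  letI := φ.toAlgebra
  ∀ s : Finset B, ∃ B₀ : Subalgebra A B, (↑s : Set B) ⊆ ↑B₀ ∧
    Algebra.FiniteType A ↥B₀ ∧ Algebra.QuasiFinite A ↥B₀

theorem directedQF_of_isIntegral {A B : Type u} [CommRing A] [CommRing B] (φ : A →+* B) (h : φ.IsIntegral) :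
    DirectedQF φ := by
  letI := φ.toAlgebra
  haveI : Algebra.IsIntegral A B := ⟨h⟩
  intro s
  refine ⟨Algebra.adjoin A (↑s : Set B), Algebra.subset_adjoin, (Subalgebra.fg_iff_finiteType _).mp (Subalgebra.fg_adjoin_finset s), ?_⟩
  haveI : Module.Finite A ↥(Algebra.adjoin A (↑s : Set B)) := Algebra.finite_adjoin_of_finite_of_isIntegral
    s.finite_toSet fun x _ => Algebra.IsIntegral.isIntegral x
  infer_instance

theorem directedQF_of_quasiFinite {A B : Type u} [CommRing A] [CommRing B] (φ : A →+* B)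
    (hft : φ.FiniteType) (hqf : φ.QuasiFinite) : DirectedQF φ := by
  letI := φ.toAlgebra
  haveI : Algebra.FiniteType A B := hft
  haveI : Algebra.QuasiFinite A B := hqf
  intro s
  refine ⟨⊤, fun _ _ => trivial, Algebra.FiniteType.equiv (inferInstance : Algebra.FiniteType A B) Subalgebra.topEquiv.symm, ?_⟩
  exact Algebra.QuasiFinite.of_surjective_algHom (Subalgebra.topEquiv.symm : B ≃ₐ[A] _).toAlgHom
    (Subalgebra.topEquiv.symm : B ≃ₐ[A] _).surjective

theorem isLocallyAcyclic_baseChange {X S S' : Scheme.{u}} (f : X ⟶ S) (g : S' ⟶ S)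
    (hg : ∀ s' : S', ∃ (A B : CommRingCat.{u}) (a : Spec A ⟶ S) (b : Spec B ⟶ S') (_ : IsOpenImmersion a)
      (_ : IsOpenImmersion b) (φ : A ⟶ B), b ≫ g = Spec.map φ ≫ a ∧ s' ∈ Set.range b ∧ DirectedQF φ.hom)
    (hf : EtRest.IsLocallyAcyclic f) : EtRest.IsLocallyAcyclic (pullback.snd f g) := by
  intro x' RS' RX' _ _ _ _ _ _ _ _ _ _ _ _ hcompat' Ω _ _ _ n hn
  -- notation
  set x : X := (pullback.fst f g) x' with hx_def
  have hgs : g ((pullback.snd f g) x') = f x := by
    rw [hx_def, ← Scheme.Hom.comp_apply, ← pullback.condition, Scheme.Hom.comp_apply]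
  obtain ⟨A, B, a, b, ha, hb, φB, hbg, ⟨pB₀, hpB₀⟩, hQF⟩ := hg ((pullback.snd f g) x')
  -- affine chart on `X`
  obtain ⟨_, ⟨W, hW, rfl⟩, hxW, hWle⟩ := X.isBasis_affineOpens.exists_subset_of_mem_open
    (show x ∈ f ⁻¹ᵁ a.opensRange from ⟨(Spec.map φB) pB₀, by
      rw [← hgs, ← hpB₀, ← Scheme.Hom.comp_apply, ← Scheme.Hom.comp_apply, hbg]⟩) (f ⁻¹ᵁ a.opensRange).2
  let c : Spec Γ(X, W) ⟶ X := hW.fromSpec
  have hrange : Set.range (c ≫ f) ⊆ Set.range a := by
    rintro _ ⟨z, rfl⟩
    have : c z ∈ (W : Set X) := by rw [← hW.range_fromSpec]; exact Set.mem_range_self z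
    exact hWle this
  obtain ⟨φC, hcf⟩ : ∃ φC : A ⟶ Γ(X, W), c ≫ f = Spec.map φC ≫ a :=
    ⟨Spec.preimage (IsOpenImmersion.lift a (c ≫ f) hrange), by
      rw [Spec.map_preimage, IsOpenImmersion.lift_fac]⟩
  letI algAB : Algebra A B := φB.hom.toAlgebra
  letI algAC : Algebra A Γ(X, W) := φC.hom.toAlgebra
  -- the affine chart on the fibre product
  let m := pullback.map (Spec.map (CommRingCat.ofHom (algebraMap A B))) (Spec.map (CommRingCat.ofHom (algebraMap A Γ(X, W))))
    g f b c a hbg.symm hcf.symm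
  let d : Spec (CommRingCat.of (B ⊗[A] Γ(X, W))) ⟶ pullback f g :=
    (pullbackSpecIso A B Γ(X, W)).inv ≫ m ≫ (pullbackSymmetry g f).hom
  haveI : IsOpenImmersion d := inferInstance
  have hd1 : d ≫ pullback.snd f g =
      Spec.map (CommRingCat.ofHom (Algebra.TensorProduct.includeLeftRingHom : B →+* B ⊗[A] Γ(X, W))) ≫ b := by
    simp only [d, m, Category.assoc, pullbackSymmetry_hom_comp_snd, pullback.lift_fst]
    rw [← Category.assoc, pullbackSpecIso_inv_fst]
  have hd2 : d ≫ pullback.fst f g = Spec.map (CommRingCat.ofHom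
      (Algebra.TensorProduct.includeRight : Γ(X, W) →ₐ[A] B ⊗[A] Γ(X, W)).toRingHom) ≫ c := by
    simp only [d, m, Category.assoc, pullbackSymmetry_hom_comp_fst, pullback.lift_snd]
    rw [← Category.assoc, pullbackSpecIso_inv_snd]
    rfl
  obtain ⟨pD, hpD⟩ : ∃ pD, d pD = x' := by
    have : (pullbackSymmetry g f).inv x' ∈ Set.range m := by
      rw [Scheme.Pullback.range_map]
      refine ⟨⟨pB₀, ?_⟩, ?_⟩
      · exact hpB₀.trans (congrArg (fun h => Scheme.Hom.toLRSHom h |>.base x') (pullbackSymmetry_inv_comp_fst g f)).symm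
      · show (pullback.snd g f) ((pullbackSymmetry g f).inv x') ∈ Set.range c
        rw [← Scheme.Hom.comp_apply, pullbackSymmetry_inv_comp_snd, hW.range_fromSpec]
        exact hxW
    obtain ⟨z, hz⟩ := this
    refine ⟨(pullbackSpecIso A B Γ(X, W)).hom z, ?_⟩
    simp only [d, ← Scheme.Hom.comp_apply, Iso.hom_inv_id_assoc]
    rw [Scheme.Hom.comp_apply, hz, ← Scheme.Hom.comp_apply, Iso.inv_hom_id]
    rfl
  -- the primes
  let pB : Ideal B := pD.asIdeal.comap (Algebra.TensorProduct.includeLeftRingHom : B →+* B ⊗[A] Γ(X, W))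
  let pC : Ideal Γ(X, W) := pD.asIdeal.comap
    (Algebra.TensorProduct.includeRight : Γ(X, W) →ₐ[A] B ⊗[A] Γ(X, W)).toRingHom
  let pA : Ideal A := pB.comap (algebraMap A B)
  haveI : pB.LiesOver pA := ⟨rfl⟩
  haveI : pC.LiesOver pA := ⟨by
    show pA = (pD.asIdeal.comap _).comap (algebraMap A Γ(X, W))
    simp only [pA, pB, Ideal.comap_comap]
    congr 1
    exact RingHom.ext fun r => ((Algebra.TensorProduct.includeLeft : B →ₐ[A] B ⊗[A] Γ(X, W)).commutes r).trans
      ((Algebra.TensorProduct.includeRight : Γ(X, W) →ₐ[A] B ⊗[A] Γ(X, W)).commutes r).symm⟩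
  haveI : pD.asIdeal.LiesOver pB := ⟨rfl⟩
  have hbs : b ⟨pB, inferInstance⟩ = (pullback.snd f g) x' := by
    rw [← hpD, ← Scheme.Hom.comp_apply, hd1]
    rfl
  have hcx : c ⟨pC, inferInstance⟩ = x := by
    rw [hx_def, ← hpD, ← Scheme.Hom.comp_apply, hd2]
    rfl
  have has : a ⟨pA, inferInstance⟩ = f x := by
    rw [← hgs, ← hbs, ← Scheme.Hom.comp_apply, hbg]
    rfl
  -- the local rings
  obtain ⟨eA, heA⟩ := exists_stalkEquiv a ⟨pA, inferInstance⟩ (f x) has
  obtain ⟨eB, heB⟩ := exists_stalkEquiv b ⟨pB, inferInstance⟩ _ hbs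
  obtain ⟨eC, heC⟩ := exists_stalkEquiv c ⟨pC, inferInstance⟩ x hcx
  obtain ⟨eD, heD⟩ := exists_stalkEquiv d pD x' hpD
  -- stalk maps
  obtain ⟨gs, _, hgsψ⟩ := fromSpecStalk_lift g (f x) ((pullback.snd f g) x') hgs
  have hfx : Spec.map (f.stalkMap x) ≫ S.fromSpecStalk (f x) = X.fromSpecStalk x ≫ f :=
    Scheme.SpecMap_stalkMap_fromSpecStalk f
  obtain ⟨fs, _, hfsψ⟩ := fromSpecStalk_lift (pullback.fst f g) x x' rfl
  have hsnd : Spec.map ((pullback.snd f g).stalkMap x') ≫ S'.fromSpecStalk _ =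
      (pullback f g).fromSpecStalk x' ≫ pullback.snd f g :=
    Scheme.SpecMap_stalkMap_fromSpecStalk (pullback.snd f g)
  have hsq : f.stalkMap x ≫ fs = gs ≫ (pullback.snd f g).stalkMap x' := stalk_hom_ext (by
    rw [Spec.map_comp, Spec.map_comp, Category.assoc, Category.assoc, hgsψ, hfx, ← Category.assoc, hfsψ,
      Category.assoc, pullback.condition, ← Category.assoc, ← hsnd, Category.assoc])
  have sqAB := chart_square g a b φB.hom hbg (f x) _ _ _ heA heB gs hgsψ
  have sqAC := chart_square f a c φC.hom hcf (f x) x _ _ heA heC (f.stalkMap x) hfx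
  have sqBD := chart_square (pullback.snd f g) b d _ hd1 _ x' _ _ heB heD _ hsnd
  have sqCD := chart_square (pullback.fst f g) c d _ hd2 _ x' _ _ heC heD _ hfsψ
  -- strict henselizations of the stalks on `S` and `X`
  let OS := S.presheaf.stalk (f x)
  let OX := X.presheaf.stalk x
  let RS := HenselLib.LocalSH OS
  let RX := HenselLib.LocalSH OX
  haveI hRS : Hensel.IsStrictHenselization OS RS := HenselLib.isStrictHenselization_localSH
  haveI hRX : Hensel.IsStrictHenselization OX RX := HenselLib.isStrictHenselization_localSH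
  have hRS' := (inferInstance : Hensel.IsStrictHenselization (S'.presheaf.stalk ((pullback.snd f g) x')) RS')
  have hRX' := (inferInstance : Hensel.IsStrictHenselization ((pullback f g).presheaf.stalk x') RX')
  haveI := hRX'.henselian
  haveI := hRS'.henselian
  obtain ⟨ΦS, _, hΦS⟩ := exists_shMap (As := RS) (Cs := RS') gs.hom
  obtain ⟨ΦX, _, hΦX⟩ := exists_shMap (As := RX) (Cs := RX') fs.hom
  haveI : IsLocalHom ((algebraMap RS' RX').comp ΦS) := RingHom.isLocalHom_comp _ _
  obtain ⟨Φ, _, hΦ, hΦ'⟩ := exists_shMap_factor (As := RS) (Cs := RX) (f.stalkMap x).hom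
    ((algebraMap RS' RX').comp ΦS) ΦX (by
      rw [RingHom.comp_assoc, hΦS, ← RingHom.comp_assoc, hcompat', RingHom.comp_assoc]
      refine Eq.trans ?_ (congrArg (fun t => RingHom.comp t (f.stalkMap x).hom) hΦX).symm
      exact congrArg _ (congrArg CommRingCat.Hom.hom hsq).symm)
  -- algebra structures
  letI : Algebra RS RX := Φ.toAlgebra
  letI : Algebra RS RS' := ΦS.toAlgebra
  letI : Algebra RX RX' := ΦX.toAlgebra
  letI : Algebra RS RX' := ((algebraMap RS' RX').comp ΦS).toAlgebra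
  haveI : IsScalarTower RS RS' RX' := IsScalarTower.of_algebraMap_eq fun _ => rfl
  haveI : IsScalarTower RS RX RX' := IsScalarTower.of_algebraMap_eq fun r => (congr($hΦ' r)).symm
  haveI : IsLocalHom (algebraMap RS RX) := ‹IsLocalHom Φ›
  haveI : IsLocalHom (algebraMap RS RS') := ‹IsLocalHom ΦS›
  haveI : IsLocalHom (algebraMap RX RX') := ‹IsLocalHom ΦX›
  letI : Algebra (Localization.AtPrime pA) RS := ((algebraMap OS RS).comp eA.toRingHom).toAlgebra
  letI : Algebra (Localization.AtPrime pB) RS' :=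
    ((algebraMap (S'.presheaf.stalk _) RS').comp eB.toRingHom).toAlgebra
  letI : Algebra (Localization.AtPrime pC) RX := ((algebraMap OX RX).comp eC.toRingHom).toAlgebra
  letI : Algebra (Localization.AtPrime pD.asIdeal) RX' :=
    ((algebraMap ((pullback f g).presheaf.stalk x') RX').comp eD.toRingHom).toAlgebra
  obtain ⟨_, hA⟩ := isStrictHenselization_of_base_equiv (S := RS) eA rfl
  obtain ⟨_, hB⟩ := isStrictHenselization_of_base_equiv (S := RS') eB rfl
  obtain ⟨_, hC⟩ := isStrictHenselization_of_base_equiv (S := RX) eC rfl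
  obtain ⟨_, hD⟩ := isStrictHenselization_of_base_equiv (S := RX') eD rfl
  letI : Algebra A RS := ((algebraMap (Localization.AtPrime pA) RS).comp (algebraMap A _)).toAlgebra
  haveI : IsScalarTower A (Localization.AtPrime pA) RS := IsScalarTower.of_algebraMap_eq fun _ => rfl
  letI : Algebra B RS' := ((algebraMap (Localization.AtPrime pB) RS').comp (algebraMap B _)).toAlgebra
  haveI : IsScalarTower B (Localization.AtPrime pB) RS' := IsScalarTower.of_algebraMap_eq fun _ => rfl
  letI : Algebra A RS' := ((algebraMap B RS').comp (algebraMap A B)).toAlgebra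
  haveI : IsScalarTower A B RS' := IsScalarTower.of_algebraMap_eq fun _ => rfl
  letI : Algebra Γ(X, W) RX := ((algebraMap (Localization.AtPrime pC) RX).comp (algebraMap Γ(X, W) _)).toAlgebra
  haveI : IsScalarTower Γ(X, W) (Localization.AtPrime pC) RX := IsScalarTower.of_algebraMap_eq fun _ => rfl
  letI : Algebra A RX := ((algebraMap Γ(X, W) RX).comp (algebraMap A Γ(X, W))).toAlgebra
  haveI : IsScalarTower A Γ(X, W) RX := IsScalarTower.of_algebraMap_eq fun _ => rfl
  letI : Algebra (B ⊗[A] Γ(X, W)) RX' :=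
    ((algebraMap (Localization.AtPrime pD.asIdeal) RX').comp (algebraMap (B ⊗[A] Γ(X, W)) _)).toAlgebra
  haveI : IsScalarTower (B ⊗[A] Γ(X, W)) (Localization.AtPrime pD.asIdeal) RX' :=
    IsScalarTower.of_algebraMap_eq fun _ => rfl
  letI : Algebra B RX' := ((algebraMap RS' RX').comp (algebraMap B RS')).toAlgebra
  haveI : IsScalarTower B RS' RX' := IsScalarTower.of_algebraMap_eq fun _ => rfl
  haveI : IsScalarTower A RS RS' := IsScalarTower.of_algebraMap_eq fun r => by
    show algebraMap _ RS' (eB (algebraMap B _ (φB.hom r))) = ΦS (algebraMap OS RS (eA (algebraMap A _ r)))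
    exact ((congr($hΦS (eA (algebraMap A _ r)))).trans (congrArg (algebraMap _ RS') congr($sqAB r))).symm
  haveI : IsScalarTower A RS RX := IsScalarTower.of_algebraMap_eq fun r => by
    show algebraMap OX RX (eC (algebraMap _ _ (φC.hom r))) = Φ (algebraMap OS RS (eA (algebraMap A _ r)))
    exact ((congr($hΦ (eA (algebraMap A _ r)))).trans (congrArg (algebraMap OX RX) congr($sqAC r))).symm
  haveI : IsScalarTower B (B ⊗[A] Γ(X, W)) RX' := IsScalarTower.of_algebraMap_eq fun r => by
    show algebraMap RS' RX' (algebraMap _ RS' (eB (algebraMap B _ r))) =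
      algebraMap _ RX' (eD (algebraMap _ _ (r ⊗ₜ[A] (1 : Γ(X, W)))))
    exact (congr($hcompat' (eB (algebraMap B _ r)))).trans (congrArg (algebraMap _ RX') congr($sqBD r))
  have hC' : ∀ r : Γ(X, W), algebraMap RX RX' (algebraMap Γ(X, W) RX r) =
      algebraMap (B ⊗[A] Γ(X, W)) RX' ((1 : B) ⊗ₜ[A] r) := fun r => by
    show ΦX (algebraMap OX RX (eC (algebraMap _ _ r))) = algebraMap _ RX' (eD (algebraMap _ _ ((1 : B) ⊗ₜ[A] r)))
    exact (congr($hΦX (eC (algebraMap _ _ r)))).trans (congrArg (algebraMap _ RX') congr($sqCD r))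
  have hint : Algebra.IsIntegral RS RS' :=
    HenselLib.IndQF.isIntegral_sh_of_subalgebras A B pA pB RS RS' hQF
  have hbij := HenselLib.StrictBase.bijective_lift A B Γ(X, W) pA pB pC pD.asIdeal rfl RS RS' RX RX' hC'
  -- transfer
  letI : Algebra RS Ω := ((algebraMap RS' Ω).comp ΦS).toAlgebra
  haveI : IsScalarTower RS RS' Ω := IsScalarTower.of_algebraMap_eq fun _ => rfl
  have hnx : (n : X.residueField x) ≠ 0 := fun h => hn (by
    have := congrArg ((pullback.fst f g).residueFieldMap x').hom h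
    rwa [map_natCast, map_zero] at this)
  obtain ⟨h1, ⟨h2⟩⟩ := hf x RS RX hΦ Ω n hnx
  obtain ⟨e⟩ := nonempty_vcEquiv RS RS' RX RX' Ω (IsScalarTower.toAlgHom RS RX RX') hbij
  let ι : Spec (CommRingCat.of (EtRest.vcRing RS' RX' Ω)) ⟶ Spec (CommRingCat.of (EtRest.vcRing RS RX Ω)) :=
    Spec.map (e.toCommRingCatIso.hom)
  refine ⟨fun q hq => ?_, ?_⟩
  · obtain ⟨E⟩ := nonempty_H_equiv ι (ZMod n) q
    haveI := h1 q hq
    exact E.symm.toEquiv.subsingleton
  · obtain ⟨E⟩ := nonempty_H_equiv ι (ZMod n) 0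
    exact ⟨E.symm.trans h2⟩

end Groth.Agent.Et18.LocAcycBC
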