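import Groth.Agent.Et18.LocAcycBC.ConstTors
import Groth.Prelude.Def_Hens2

/-!
# Local acyclicity relative to locally constant torsion sheaves
-/

set_option autoImplicit false
set_option linter.all false
set_option backward.isDefEq.respectTransparency.types false
set_option backward.isDefEq.respectTransparency false
set_option maxHeartbeats 1000000

universe u

open CategoryTheory CategoryTheory.Limits AlgebraicGeometry Opposite IsLocalRing
open Groth.Agent.Et18

namespace Groth.Agent.Et18.LocAcycBC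

theorem preconnectedSpace_spec_local (R : Type u) [CommRing R] [IsLocalRing R] :
    PreconnectedSpace (Spec (CommRingCat.of R)) := by
  refine preconnectedSpace_iff_clopen.mpr fun U hU => ?_
  by_cases hc : closedPoint R ∈ U
  · exact Or.inr (Set.eq_univ_of_forall fun z => (IsLocalRing.specializes_closedPoint (R := R) z).mem_open hU.isOpen hc)
  · refine Or.inl (Set.eq_empty_of_forall_notMem fun z hz => ?_)
    exact (IsLocalRing.specializes_closedPoint (R := R) z).mem_open hU.compl.isOpen hc hz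

/-- Locally constant sheaves become constant on strict localizations. -/
theorem exists_iso_cst {X : Scheme.{u}} (F : EtCoh.Ab X) (hF : EtRest.IsLocallyConstant F)
    (R : Type u) [CommRing R] [HenselianLocalRing R] [IsSepClosed (ResidueField R)]
    (t : Spec (CommRingCat.of R) ⟶ X) :
    ∃ M : AddCommGrpCat.{u + 1}, Nonempty ((EtCoh.pull t).obj F ≅ (cst _).obj M) := by
  obtain ⟨ι, U, hU, hM⟩ := hF
  obtain ⟨i, y, hy⟩ := hU (t (closedPoint R))
  obtain ⟨M, _, hiso⟩ := hM i
  obtain ⟨e⟩ := (nonempty_restr_iso_const_iff (U i) F (AddCommGrpCat.of M)).mp hiso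
  obtain ⟨v, -, hsv⟩ := Scheme.Pullback.exists_preimage_pullback (f := (U i).hom) (g := t) y (closedPoint R) hy
  let V := (EtCoh.bc t).obj (U i)
  haveI : Etale (pullback.snd (U i).hom t) := V.prop
  let ξ := closedGeomPt R
  have hξ : ξ default = closedPoint R := by
    apply PrimeSpectrum.ext
    show Ideal.comap ((algebraMap (ResidueField R) (AlgebraicClosure (ResidueField R))).comp (residue R)) ⊥ = maximalIdeal R
    rw [← RingHom.ker_eq_comap_bot, RingHom.ker_comp_of_injective _ (algebraMap (ResidueField R) _).injective, IsLocalRing.ker_residue]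
  obtain ⟨l, hl, -⟩ := Scheme.exists_fac_of_etale_of_isSepClosed (pullback.snd (U i).hom t) ξ v (hsv.trans hξ.symm)
  obtain ⟨σ, -⟩ := exists_section_of_fiber R V (Over.homMk l hl)
  let s : Spec (CommRingCat.of R) ⟶ (U i).left := σ.left ≫ pullback.fst (U i).hom t
  have hs : s ≫ (U i).hom = t := by
    have h1 : σ.left ≫ pullback.snd (U i).hom t = 𝟙 _ := MorphismProperty.Over.w σ
    show (σ.left ≫ _) ≫ _ = t
    rw [Category.assoc, pullback.condition, reassoc_of% h1]
  exact ⟨AddCommGrpCat.of M, ⟨(EtCore.pullCongr hs.symm).app F ≪≫ (EtCore.pullComp s (U i).hom).app F ≪≫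
    (EtCoh.pull s).mapIso e ≪≫ (EtCore.pullConstIso s).app _⟩⟩

theorem bijective_Hpull_vc {X S : Scheme.{u}} (f : X ⟶ S)
    (hf : EtRest.IsLocallyAcyclic f) (F : EtCoh.Ab X) (hF : EtRest.IsLocallyConstant F)
    (htor : ∀ (Ω : Type u) [Field Ω] [IsSepClosed Ω] (ξ : Spec (CommRingCat.of Ω) ⟶ X)
      (s : (EtCoh.stalk ξ).obj F), ∃ n : ℕ, 0 < n ∧ (n : Ω) ≠ 0 ∧ n • s = 0)
    (x : ↥X) (RS RX : Type u) [CommRing RS] [CommRing RX] [IsLocalRing RS] [IsLocalRing RX]
    [Algebra (S.presheaf.stalk (f.base x)) RS] [IsLocalHom (algebraMap (S.presheaf.stalk (f.base x)) RS)]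
    [Hensel.IsStrictHenselization (S.presheaf.stalk (f.base x)) RS]
    [Algebra (X.presheaf.stalk x) RX] [IsLocalHom (algebraMap (X.presheaf.stalk x) RX)]
    [Hensel.IsStrictHenselization (X.presheaf.stalk x) RX]
    [Algebra RS RX] [IsLocalHom (algebraMap RS RX)]
    (hc : (algebraMap RS RX).comp (algebraMap (S.presheaf.stalk (f.base x)) RS) =
      (algebraMap (X.presheaf.stalk x) RX).comp (f.stalkMap x).hom)
    (Ω : Type u) [Field Ω] [IsSepClosed Ω] [Algebra RS Ω]
    (π : Spec (CommRingCat.of (EtRest.vcRing RS RX Ω)) ⟶ Spec (CommRingCat.of RX))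
    [PreservesFiniteLimits (EtCoh.pull π)] (t : Spec (CommRingCat.of RX) ⟶ X) (q : ℕ) :
    Function.Bijective (EtCore.Hpull π ((EtCoh.pull t).obj F) q) := by
  have hRX := (inferInstance : Hensel.IsStrictHenselization (X.presheaf.stalk x) RX)
  haveI := hRX.henselian
  haveI := hRX.isSepClosure.sep_closed
  obtain ⟨M, ⟨e⟩⟩ := exists_iso_cst F hF RX t
  refine bijective_Hpull_of_iso π e q ?_
  let P : ℕ → Prop := fun n => (n : X.residueField x) ≠ 0
  have hP : ∀ a b, a ∣ b → P b → P a := by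
    rintro a b ⟨c, rfl⟩ hb ha
    exact hb (by rw [Nat.cast_mul, ha, zero_mul])
  have hacyc := fun n (hn : P n) => hf x RS RX hc Ω n hn
  -- torsion
  let ξ₀ : Spec (CommRingCat.of (ResidueField RX)) ⟶ Spec (CommRingCat.of RX) :=
    Spec.map (CommRingCat.ofHom (residue RX))
  have hM : ∀ m : M, ∃ n, 0 < n ∧ P n ∧ n • m = 0 := fun m => by
    let g : M ⟶ (EtCoh.stalk (ξ₀ ≫ t)).obj F :=
      cstGerm ξ₀ M ≫ (EtCoh.stalk ξ₀).map e.inv ≫ (stalkPullIso t ξ₀).hom.app F
    have hg : Function.Injective g := fun a b hab =>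
      (cstGerm_bijective ξ₀ M).1 ((ConcreteCategory.bijective_of_isIso
        ((EtCoh.stalk ξ₀).map e.inv ≫ (stalkPullIso t ξ₀).hom.app F)).1 hab)
    obtain ⟨n, hn0, hn, hns⟩ := htor (ResidueField RX) (ξ₀ ≫ t) (g m)
    refine ⟨n, hn0, fun h => hn ?_, hg (by rw [map_nsmul, hns, map_zero])⟩
    have := congrArg (ResidueField.map (algebraMap (X.presheaf.stalk x) RX)) h
    rw [map_natCast, map_zero] at this
    exact this
  -- connectedness
  obtain ⟨ℓ, hℓ1, hℓ⟩ : ∃ ℓ : ℕ, 1 < ℓ ∧ P ℓ := by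
    by_cases h2 : P 2
    · exact ⟨2, by norm_num, h2⟩
    · refine ⟨3, by norm_num, fun h3 => one_ne_zero (α := X.residueField x) ?_⟩
      have h2' : ((2 : ℕ) : X.residueField x) = 0 := not_not.mp h2
      have h31 : ((3 : ℕ) : X.residueField x) = ((2 : ℕ) : X.residueField x) + 1 := by push_cast; norm_num
      rw [h3, h2', zero_add] at h31
      exact h31.symm
  haveI : Fact (1 < ℓ) := ⟨hℓ1⟩
  obtain ⟨hne, hpre⟩ := connectedSpace_of_H_zero ℓ (hacyc ℓ hℓ).2.some
  haveI := hne
  haveI := hpre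
  haveI := preconnectedSpace_spec_local RX
  haveI : Nonempty (Spec (CommRingCat.of RX)) := ⟨closedPoint RX⟩
  rcases q with _ | q
  · exact bijective_Hpull_zero π M
  · haveI h1 : Subsingleton (EtCoh.H (Spec (CommRingCat.of RX)) ((cst _).obj M) (q + 1)) :=
      subsingleton_H_of_integral (R := RX) (f := 𝟙 _) _ q
    haveI h2' : Subsingleton (EtCoh.H (Spec (CommRingCat.of (EtRest.vcRing RS RX Ω))) ((cst _).obj M) (q + 1)) :=
      subsingleton_H_cst (q + 1) P hP (fun n hn => (hacyc n hn).1 (q + 1) q.succ_pos) M hM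
    haveI h2 : Subsingleton (EtCoh.H (Spec (CommRingCat.of (EtRest.vcRing RS RX Ω)))
        ((EtCoh.pull π).obj ((cst _).obj M)) (q + 1)) :=
      @Equiv.subsingleton _ _ ((EtCoh.HF _ (q + 1)).mapIso ((EtCore.pullConstIso π).app M)).addCommGroupIsoToAddEquiv.toEquiv h2'
    exact ⟨fun a b _ => Subsingleton.elim a b, fun b => ⟨0, Subsingleton.elim _ _⟩⟩

end Groth.Agent.Et18.LocAcycBC
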