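import Groth.Prelude.Def_EtRestW
import Groth.Agent.HenselLib.LocalHens
import Groth.Agent.HenselLib.StrictTransfer

/-!
# Stalks of affine charts, and transport of strict henselizations along base isomorphisms
-/

set_option autoImplicit false
set_option linter.all false
set_option backward.isDefEq.respectTransparency.types false

universe u

open CategoryTheory CategoryTheory.Limits AlgebraicGeometry IsLocalRing

namespace Groth.Agent.Et18.LocAcycBC

/-- The local ring of a scheme at a point of an affine chart is the localization of the chart. -/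
theorem exists_stalkEquiv {C : CommRingCat.{u}} {X : Scheme.{u}} (c : Spec C ⟶ X) [IsOpenImmersion c]
    (p : ↥(Spec C)) (x : X) (h : c p = x) :
    ∃ e : Localization.AtPrime p.asIdeal ≃+* X.presheaf.stalk x,
      Spec.map (CommRingCat.ofHom (e.toRingHom.comp (algebraMap C _))) ≫ c = X.fromSpecStalk x := by
  subst h
  let e₀ : Localization.AtPrime p.asIdeal ≃ₐ[C] ((Spec.structureSheaf C).presheaf.stalk p) :=
    IsLocalization.algEquiv p.asIdeal.primeCompl _ _
  haveI := (IsOpenImmersion.iff_isIso_stalkMap.mp (inferInstance : IsOpenImmersion c)).2 p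
  let i : (Spec C).presheaf.stalk p ≅ X.presheaf.stalk (c p) := (asIso (c.stalkMap p)).symm
  refine ⟨e₀.toRingEquiv.trans i.commRingCatIsoToRingEquiv, ?_⟩
  have hj : CommRingCat.ofHom ((e₀.toRingEquiv.trans i.commRingCatIsoToRingEquiv).toRingHom.comp
      (algebraMap C _)) = StructureSheaf.toStalk C p ≫ i.hom := by
    ext r
    show i.hom (e₀ (algebraMap C _ r)) = _
    rw [AlgEquiv.commutes]
    rfl
  rw [hj, Spec.map_comp, Category.assoc]
  have h1 := Scheme.SpecMap_stalkMap_fromSpecStalk c (x := p)
  rw [Spec.fromSpecStalk_eq'] at h1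
  have h2 : Spec.map i.inv ≫ Spec.map i.hom = 𝟙 _ := by
    rw [← Spec.map_comp]; exact (congrArg Spec.map i.hom_inv_id).trans (Spec.map_id _)
  refine (cancel_epi (Spec.map i.inv)).mp ?_
  exact (Category.assoc _ _ _).symm.trans ((congrArg (· ≫ _) h2).trans ((Category.id_comp _).trans h1.symm))

theorem fromSpecStalk_lift {X Y : Scheme.{u}} (h : Y ⟶ X) (x : X) (y : Y) (hy : h y = x) :
    ∃ ψ : X.presheaf.stalk x ⟶ Y.presheaf.stalk y, IsLocalHom ψ.hom ∧
      Spec.map ψ ≫ X.fromSpecStalk x = Y.fromSpecStalk y ≫ h := by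
  subst hy
  exact ⟨h.stalkMap y, inferInstance, Scheme.SpecMap_stalkMap_fromSpecStalk h⟩

theorem stalk_hom_ext {X : Scheme.{u}} {x : X} {R : CommRingCat.{u}} {φ ψ : X.presheaf.stalk x ⟶ R}
    (h : Spec.map φ ≫ X.fromSpecStalk x = Spec.map ψ ≫ X.fromSpecStalk x) : φ = ψ :=
  Spec.map_injective ((cancel_mono _).mp h)

theorem chart_square {X Y : Scheme.{u}} (h : Y ⟶ X) {C D : CommRingCat.{u}} (c : Spec C ⟶ X) [Mono c]
    (d : Spec D ⟶ Y) (φ : C →+* D) (hcd : d ≫ h = Spec.map (CommRingCat.ofHom φ) ≫ c)
    (x : X) (y : Y) (jC : C →+* X.presheaf.stalk x) (jD : D →+* Y.presheaf.stalk y)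
    (hC : Spec.map (CommRingCat.ofHom jC) ≫ c = X.fromSpecStalk x)
    (hD : Spec.map (CommRingCat.ofHom jD) ≫ d = Y.fromSpecStalk y)
    (ψ : X.presheaf.stalk x ⟶ Y.presheaf.stalk y)
    (hψ : Spec.map ψ ≫ X.fromSpecStalk x = Y.fromSpecStalk y ≫ h) :
    ψ.hom.comp jC = jD.comp φ := by
  have : CommRingCat.ofHom (ψ.hom.comp jC) = CommRingCat.ofHom (jD.comp φ) := by
    refine Spec.map_injective ((cancel_mono c).mp ?_)
    rw [show CommRingCat.ofHom (ψ.hom.comp jC) = CommRingCat.ofHom jC ≫ ψ from rfl,
      show CommRingCat.ofHom (jD.comp φ) = CommRingCat.ofHom φ ≫ CommRingCat.ofHom jD from rfl,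
      Spec.map_comp, Spec.map_comp, Category.assoc, Category.assoc, hC, hψ, ← hcd, ← Category.assoc, hD]
  exact congrArg CommRingCat.Hom.hom this

/-- A strict henselization of `R` is one of any isomorphic ring. -/
theorem isStrictHenselization_of_base_equiv {R₀ R S : Type u} [CommRing R₀] [IsLocalRing R₀] [CommRing R]
    [IsLocalRing R] [CommRing S] [IsLocalRing S] [Algebra R S] [IsLocalHom (algebraMap R S)]
    [hS : Hensel.IsStrictHenselization R S] (e : R₀ ≃+* R) [Algebra R₀ S]
    (he : algebraMap R₀ S = (algebraMap R S).comp e.toRingHom) :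
    ∃ _ : IsLocalHom (algebraMap R₀ S), Hensel.IsStrictHenselization R₀ S := by
  haveI hloc : IsLocalHom e.toRingHom := ⟨fun a h => (MulEquiv.isUnit_map e.toMulEquiv).mp h⟩
  haveI hloc' : IsLocalHom e.symm.toRingHom := ⟨fun a h => (MulEquiv.isUnit_map e.symm.toMulEquiv).mp h⟩
  have hl : IsLocalHom (algebraMap R₀ S) := he ▸ RingHom.isLocalHom_comp _ _
  refine ⟨hl, hS.henselian, ?_, ?_⟩
  · have hSc := hS.isSepClosure
    let r : ResidueField R₀ ≃+* ResidueField R := RingEquiv.ofRingHom
      (ResidueField.map e.toRingHom) (ResidueField.map e.symm.toRingHom)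
      (RingHom.ext fun x => by obtain ⟨x, rfl⟩ := residue_surjective x; exact congrArg (residue R) (e.apply_symm_apply x))
      (RingHom.ext fun x => by obtain ⟨x, rfl⟩ := residue_surjective x; exact congrArg (residue R₀) (e.symm_apply_apply x))
    letI : Algebra (ResidueField R₀) (ResidueField R) := r.toRingHom.toAlgebra
    haveI : IsScalarTower (ResidueField R₀) (ResidueField R) (ResidueField S) :=
      IsScalarTower.of_algebraMap_eq fun x => by
        obtain ⟨a, rfl⟩ := residue_surjective x
        exact congrArg (residue S) congr($he a)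
    haveI : Algebra.IsSeparable (ResidueField R₀) (ResidueField R) :=
      ⟨fun x => by
        obtain ⟨a, rfl⟩ := r.surjective x
        exact isSeparable_algebraMap a⟩
    haveI := hSc.separable
    exact ⟨hSc.sep_closed, Algebra.IsSeparable.trans (ResidueField R₀) (ResidueField R) (ResidueField S)⟩
  · intro T _ _ f _ τ hτ
    haveI : IsLocalHom (f.comp e.symm.toRingHom) := RingHom.isLocalHom_comp _ _
    obtain ⟨g, ⟨hg, hgr⟩, hu⟩ := hS.universal T (f.comp e.symm.toRingHom) τ (RingHom.ext fun x => by
      obtain ⟨a, rfl⟩ := residue_surjective x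
      have := congr($hτ (residue R₀ (e.symm a)))
      refine Eq.trans ?_ this
      show τ (residue S (algebraMap R S a)) = τ (residue S (algebraMap R₀ S (e.symm a)))
      rw [he]; simp)
    refine ⟨g, ⟨RingHom.ext fun a => ?_, hgr⟩, fun g' hg' => hu g' ⟨RingHom.ext fun a => ?_, hg'.2⟩⟩
    · show g (algebraMap R₀ S a) = f a
      rw [he]
      exact congr($hg (e a)).trans (congrArg f (e.symm_apply_apply a))
    · have := congr($(hg'.1) (e.symm a))
      rw [RingHom.comp_apply, he] at this
      simpa using this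

/-- A separable extension of the base maps into a separably closed intermediate field, compatibly. -/
theorem exists_residue_factor (k M K L : Type u) [Field k] [Field M] [Field K] [Field L] [IsSepClosed K]
    [Algebra k M] [Algebra.IsSeparable k M] (kK : k →+* K) (ι : K →+* L) (ρ : M →+* L)
    (h : ρ.comp (algebraMap k M) = ι.comp kK) :
    ∃ τ : M →+* K, τ.comp (algebraMap k M) = kK ∧ ι.comp τ = ρ := by
  letI : Algebra k K := kK.toAlgebra
  letI : Algebra K L := ι.toAlgebra
  letI : Algebra k L := (ι.comp kK).toAlgebra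
  haveI : IsScalarTower k K L := IsScalarTower.of_algebraMap_eq fun _ => rfl
  have hrange : ∀ m, ρ m ∈ ι.range := fun m => by
    let ρA : M →ₐ[k] L := { ρ with commutes' := fun a => congr($h a) }
    have hs : IsSeparable k (ρA m) :=
      show IsSeparable k (ρA m) from IsSeparable.map ρA ρA.injective (Algebra.IsSeparable.isSeparable k m)
    have hs' : IsSeparable K (ρ m) := hs.tower_top K
    have hd := IsSepClosed.degree_eq_one_of_irreducible K (minpoly.irreducible hs'.isIntegral) hs'
    exact minpoly.mem_range_of_degree_eq_one K _ hd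
  choose τ hτ using hrange
  refine ⟨{ toFun := τ, map_one' := ι.injective (by simp [hτ]), map_mul' := fun a b => ι.injective (by simp [hτ]),
            map_zero' := ι.injective (by simp [hτ]), map_add' := fun a b => ι.injective (by simp [hτ]) },
    RingHom.ext fun a => ι.injective ((hτ _).trans congr($h a)), RingHom.ext hτ⟩

/-- A separable extension embeds compatibly into any separably closed extension field. -/
theorem exists_residue_lift (k M L : Type u) [Field k] [Field M] [Field L] [IsSepClosed L]
    [Algebra k M] [Algebra.IsSeparable k M] (g : k →+* L) :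
    ∃ τ : M →+* L, τ.comp (algebraMap k M) = g := by
  letI : Algebra k L := g.toAlgebra
  exact ⟨(IsSepClosed.lift : M →ₐ[k] L).toRingHom, RingHom.ext fun a => (IsSepClosed.lift : M →ₐ[k] L).commutes a⟩

/-- Lifting a local map to strict henselizations, with prescribed composite into a bigger one. -/
theorem exists_shMap {A As C Cs : Type u} [CommRing A] [IsLocalRing A] [CommRing As] [IsLocalRing As]
    [Algebra A As] [IsLocalHom (algebraMap A As)] [hA : Hensel.IsStrictHenselization A As]
    [CommRing C] [IsLocalRing C] [CommRing Cs] [IsLocalRing Cs]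
    [Algebra C Cs] [IsLocalHom (algebraMap C Cs)] [hC : Hensel.IsStrictHenselization C Cs]
    (f : A →+* C) [IsLocalHom f] :
    ∃ F : As →+* Cs, IsLocalHom F ∧ F.comp (algebraMap A As) = (algebraMap C Cs).comp f := by
  haveI := hC.henselian
  haveI := hC.isSepClosure.sep_closed
  haveI := hA.isSepClosure.separable
  haveI : IsLocalHom ((algebraMap C Cs).comp f) := RingHom.isLocalHom_comp _ _
  obtain ⟨τ, hτ⟩ := exists_residue_lift (ResidueField A) (ResidueField As) (ResidueField Cs)
    (ResidueField.map ((algebraMap C Cs).comp f))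
  obtain ⟨F, ⟨h1, h2⟩, -⟩ := hA.universal Cs ((algebraMap C Cs).comp f) τ hτ
  refine ⟨F, ⟨fun a ha => ?_⟩, h1⟩
  rw [← notMem_maximalIdeal]
  intro hm
  rw [← residue_eq_zero_iff] at hm
  exact notMem_maximalIdeal.mpr ha ((residue_eq_zero_iff _).mp (by rw [h2, hm, map_zero]))

/-- Lifting a local map to strict henselizations compatibly with given maps to a third one. -/
theorem exists_shMap_factor {A As C Cs Ds : Type u} [CommRing A] [IsLocalRing A] [CommRing As] [IsLocalRing As]
    [Algebra A As] [IsLocalHom (algebraMap A As)] [hA : Hensel.IsStrictHenselization A As]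
    [CommRing C] [IsLocalRing C] [CommRing Cs] [IsLocalRing Cs]
    [Algebra C Cs] [IsLocalHom (algebraMap C Cs)] [hC : Hensel.IsStrictHenselization C Cs]
    [CommRing Ds] [IsLocalRing Ds] [HenselianLocalRing Ds]
    (f : A →+* C) [IsLocalHom f] (G : As →+* Ds) [IsLocalHom G] (H : Cs →+* Ds) [IsLocalHom H]
    (hGH : G.comp (algebraMap A As) = H.comp ((algebraMap C Cs).comp f)) :
    ∃ F : As →+* Cs, IsLocalHom F ∧ F.comp (algebraMap A As) = (algebraMap C Cs).comp f ∧ H.comp F = G := by
  haveI := hC.henselian
  haveI := hC.isSepClosure.sep_closed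
  haveI := hA.isSepClosure.separable
  haveI : IsLocalHom ((algebraMap C Cs).comp f) := RingHom.isLocalHom_comp _ _
  haveI : IsLocalHom (H.comp ((algebraMap C Cs).comp f)) := RingHom.isLocalHom_comp _ _
  obtain ⟨τ, hτ, hτ'⟩ := exists_residue_factor (ResidueField A) (ResidueField As) (ResidueField Cs) (ResidueField Ds)
    (ResidueField.map ((algebraMap C Cs).comp f)) (ResidueField.map H) (ResidueField.map G)
    (RingHom.ext fun x => by
      obtain ⟨a, rfl⟩ := residue_surjective x
      exact congrArg (residue Ds) congr($hGH a))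
  obtain ⟨F, ⟨h1, h2⟩, -⟩ := hA.universal Cs ((algebraMap C Cs).comp f) τ hτ
  have hFloc : IsLocalHom F := ⟨fun a ha => by
    rw [← notMem_maximalIdeal]
    intro hm
    rw [← residue_eq_zero_iff] at hm
    exact notMem_maximalIdeal.mpr ha ((residue_eq_zero_iff _).mp (by rw [h2, hm, map_zero]))⟩
  refine ⟨F, hFloc, h1, ?_⟩
  haveI : IsLocalHom (G.comp (algebraMap A As)) := RingHom.isLocalHom_comp _ _
  refine (hA.universal Ds (G.comp (algebraMap A As)) (ResidueField.map G) (ResidueField.map_comp _ _).symm).unique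
    ⟨by rw [RingHom.comp_assoc, h1, hGH], fun x => ?_⟩ ⟨rfl, fun _ => rfl⟩
  show ResidueField.map H (residue Cs (F x)) = _
  rw [h2]
  exact congr($hτ' (residue As x))

end Groth.Agent.Et18.LocAcycBC
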